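import Cfsg.Agent.H456.HM.Calc
import Cfsg.Agent.StdL2.G23Coset

/-!
# S5175, StJ: a subgroup of type `2^{1+4}` is not contained in `T = V V^x` (helper745)
-/
set_option autoImplicit false

namespace Cfsg.Agent.H745.J3E

open Cfsg Cfsg.FusionSystem Cfsg.Agent.H756.HM Cfsg.Agent.H456.HM Cfsg.Agent.H802

variable {Ω : Type*} [Group Ω]

/-- `q = 4`, `|V| = 16`: no subgroup of order 32 with centre of order at most 2 and commutators in `{1, s}` is contained
in `T = V W`. -/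
theorem not_le_of_crd {K : Type} [Field K] [Fintype K] {V W : Subgroup Ω} {mu lam zet : Ω → K}
    (h : Crd K V W ⊥ mu lam zet) [Finite V] [Finite W] (hK : Fintype.card K = 4)
    (hVW : Nat.card W = Nat.card V) {R : Subgroup Ω} (hR : Nat.card R = 32)
    (hz : Nat.card (Subgroup.center R) ≤ 2) (s : Ω)
    (hs : ∀ a ∈ R, ∀ b ∈ R, a * b * a⁻¹ * b⁻¹ = 1 ∨ a * b * a⁻¹ * b⁻¹ = s) : ¬ R ≤ V ⊔ W := by
  intro hle
  set Z := V ⊓ W with hZ
  have hfR : Finite R := Nat.finite_of_card_ne_zero (by rw [hR]; norm_num)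
  -- `|Z| = 4`
  have hZc : Nat.card Z = 4 := by
    have h1 : Function.Bijective fun z : Z => zet z := by
      constructor
      · intro a b hab
        have h2 : zet ((a : Ω) * b) = 0 := by
          rw [h.zet_mul _ a.2 _ b.2]
          have h3 : zet (a : Ω) = zet (b : Ω) := hab
          rw [h3, h.add_self]
        have h4 := (h.zet_zero _ (Z.mul_mem a.2 b.2)).1 h2
        rw [Subgroup.mem_bot] at h4
        have h5 : (a : Ω) = (b : Ω)⁻¹ := eq_inv_of_mul_eq_one_left h4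
        rw [h.invV b.2.1] at h5
        exact Subtype.ext h5
      · intro k
        obtain ⟨z, hz, hzk⟩ := h.zet_surj k
        exact ⟨⟨z, hz⟩, hzk⟩
    rw [Nat.card_congr (Equiv.ofBijective _ h1), Nat.card_eq_fintype_card, hK]
  have hVc : Nat.card V = 16 := by
    rw [← h.card_V, hK, hZc]
  -- `|T| = 64`
  have hTc : Nat.card ↥(V ⊔ W) = 64 := by
    have h1 : W ≤ Subgroup.normalizer (V : Set Ω) := by
      intro w hw
      rw [Subgroup.mem_normalizer_iff]
      intro v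
      constructor
      · exact fun hv => h.conjV hv hw
      · intro hv
        have h2 := h.conjV hv (W.inv_mem hw)
        have h3 : w⁻¹ * (w * v * w⁻¹) * w⁻¹⁻¹ = v := by group
        rwa [h3] at h2
    have h2 := Cfsg.Agent.StdL2.G23Coset.card_sup_mul_card_inf h1
    rw [sup_comm, inf_comm, ← hZ, hZc, hVW, hVc] at h2
    omega
  have hcen : ∀ z ∈ Z, ∀ t ∈ V ⊔ W, t * z = z * t := fun z hz t ht => h.cenZ hz ht
  have hfT : Finite ↥(V ⊔ W) := Nat.finite_of_card_ne_zero (by rw [hTc]; norm_num)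
  -- `|R ∩ Z| ≤ 2`
  have hRZ : Nat.card ↥(R ⊓ Z) ≤ 2 := by
    refine le_trans ?_ hz
    refine Nat.card_le_card_of_injective (fun z : ↥(R ⊓ Z) =>
      (⟨⟨z, z.2.1⟩, Subgroup.mem_center_iff.2 fun r => Subtype.ext (hcen z z.2.2 r (hle r.2))⟩ :
        Subgroup.center R)) ?_
    intro a b hab
    exact Subtype.ext (congrArg (fun c : Subgroup.center R => ((c : R) : Ω)) hab)
  have hnor : R ≤ Subgroup.normalizer (Z : Set Ω) := by
    intro r hr
    rw [Subgroup.mem_normalizer_iff]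
    intro z
    constructor
    · intro hz'
      have h1 : r * z * r⁻¹ = z := by rw [hcen z hz' r (hle hr), mul_inv_cancel_right]
      rwa [h1]
    · intro hz'
      have h1 := hcen _ hz' r (hle hr)
      have h2 : z = r * z * r⁻¹ := by
        calc z = r⁻¹ * (r * z * r⁻¹ * r) := by group
          _ = r⁻¹ * (r * (r * z * r⁻¹)) := by rw [h1]
          _ = r * z * r⁻¹ := by group
      rw [h2]; exact hz'
  have hsup : R ⊔ Z = V ⊔ W := by
    apply Subgroup.eq_of_le_of_card_ge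
    · exact sup_le hle (inf_le_left.trans le_sup_left)
    · rw [hTc]
      have h1 := Cfsg.Agent.StdL2.G23Coset.card_sup_mul_card_inf hnor
      rw [hR, hZc] at h1
      by_contra hlt
      push Not at hlt
      have h2 : Nat.card ↥(R ⊔ Z) * Nat.card ↥(R ⊓ Z) ≤ 63 * 2 := Nat.mul_le_mul (by omega) hRZ
      omega
  -- all commutators of `T` are in `{1, s}`
  have hcomm : ∀ a ∈ V ⊔ W, ∀ b ∈ V ⊔ W, a * b * a⁻¹ * b⁻¹ = 1 ∨ a * b * a⁻¹ * b⁻¹ = s := by
    intro a ha b hb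
    rw [← hsup, Cfsg.Agent.StdL2.G23Coset.mem_sup_iff hnor] at ha hb
    obtain ⟨r, hr, z, hz', rfl⟩ := ha
    obtain ⟨r', hr', z', hz'', rfl⟩ := hb
    have h1 : r * z * (r' * z') * (r * z)⁻¹ * (r' * z')⁻¹ = r * r' * r⁻¹ * r'⁻¹ := by
      have c1 := hcen z hz' r' (hle hr')
      have c2 := hcen z' hz'' r (hle hr)
      have c3 := hcen z hz' z' ((inf_le_left.trans le_sup_left : Z ≤ V ⊔ W) hz'')
      calc r * z * (r' * z') * (r * z)⁻¹ * (r' * z')⁻¹ = r * (z * r') * z' * (z⁻¹ * r⁻¹) * (z'⁻¹ * r'⁻¹) := by group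
        _ = r * (r' * z) * z' * (z⁻¹ * r⁻¹) * (z'⁻¹ * r'⁻¹) := by rw [c1]
        _ = r * r' * (z * z') * z⁻¹ * r⁻¹ * z'⁻¹ * r'⁻¹ := by group
        _ = r * r' * (z' * z) * z⁻¹ * r⁻¹ * z'⁻¹ * r'⁻¹ := by rw [c3]
        _ = r * r' * r⁻¹ * (r * z') * r⁻¹ * z'⁻¹ * r'⁻¹ := by group
        _ = r * r' * r⁻¹ * (z' * r) * r⁻¹ * z'⁻¹ * r'⁻¹ := by rw [c2]
        _ = r * r' * r⁻¹ * r'⁻¹ := by group
    rw [h1]
    exact hs r hr r' hr'
  -- the contradiction
  obtain ⟨k, hk0, hk1⟩ : ∃ k : K, k ≠ 0 ∧ k ≠ 1 := by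
    classical
    by_contra hcon
    push Not at hcon
    have h1 : (Finset.univ : Finset K) ⊆ {0, 1} := by
      intro k _
      by_cases h0 : k = 0
      · simp [h0]
      · simp [hcon k h0]
    have h2 := Finset.card_le_card h1
    rw [Finset.card_univ, hK] at h2
    have h3 := Finset.card_le_two (a := (0 : K)) (b := 1)
    omega
  obtain ⟨v, hv, hmu⟩ := h.mu_surj 1
  obtain ⟨w, hw, hlam⟩ := h.lam_surj 1
  obtain ⟨w', hw', hlam'⟩ := h.lam_surj k
  have e1 := h.zet_com v hv w hw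
  have e2 := h.zet_com v hv w' hw'
  rw [hmu, hlam, one_mul] at e1
  rw [hmu, hlam', one_mul] at e2
  have hzone : zet 1 = 0 := (h.zet_zero 1 Z.one_mem).2 (Subgroup.one_mem _)
  have hvT : v ∈ V ⊔ W := (le_sup_left : V ≤ V ⊔ W) hv
  have hwT : w ∈ V ⊔ W := (le_sup_right : W ≤ V ⊔ W) hw
  have hwT' : w' ∈ V ⊔ W := (le_sup_right : W ≤ V ⊔ W) hw'
  rcases hcomm v hvT w hwT with h1 | h1
  · rw [h1, hzone] at e1
    exact zero_ne_one e1
  · rcases hcomm v hvT w' hwT' with h2 | h2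
    · rw [h2, hzone] at e2
      exact hk0 e2.symm
    · rw [h1] at e1
      rw [h2, e1] at e2
      exact hk1 e2.symm

/-- **In the configuration `Big` (or `Conf`) with `q = 4` and `fixS V E = ⊥`: no subgroup of type `2^{1+4}` is
contained in `T`.** -/
theorem not_le_T {S : Subgroup Ω} [Finite S] {F : FusionSystem S} {K : Type} [Field K] [Fintype K]
    {V T : Subgroup Ω} {x : Ω} (c : Conf F K V T x) (hT : T = V ⊔ cj x V) (hK : Fintype.card K = 4)
    (hfix : fixS V c.E = ⊥) {R : Subgroup Ω} (hR : Nat.card R = 32)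
    (hz : Nat.card (Subgroup.center R) ≤ 2) (s : Ω)
    (hs : ∀ a ∈ R, ∀ b ∈ R, a * b * a⁻¹ * b⁻¹ = 1 ∨ a * b * a⁻¹ * b⁻¹ = s) : ¬ R ≤ T := by
  obtain ⟨mu, lam, zet, h⟩ := exists_crd c
  rw [hfix] at h
  have hfV : Finite V := finite_of_le c.V_le
  have hfW : Finite (cj x V) := finite_of_le ((W_le_T c).trans (T_le c))
  rw [hT]
  exact not_le_of_crd h hK (card_cj x V) hR hz s hs

end Cfsg.Agent.H745.J3E
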