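import Cfsg.Agent.H745.J3E.Ess
import Cfsg.Agent.KFacts.J3

/-!
# S5175, StJ: the essential subgroup `2^{1+4}` of `J₃` (helper745)
-/
set_option autoImplicit false

namespace Cfsg.Agent.H745.J3E

open Subgroup Cfsg Cfsg.FusionSystem Cfsg.Agent.J2Type.Model Cfsg.Agent.J2Type.CStruct Cfsg.Agent.J3Type.OneClass

/-- `R` is a normal subgroup of `S` of type `2^{1+4}`, essential in `F_S(G)`, with `Z(R) = ⟨s⟩`,
`N_G(R) = C_G(s)`. -/
structure JR {G : Type*} [Group G] (S R : Subgroup G) (s : G) : Prop where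
  s_ne : s ≠ 1
  s_sq : s * s = 1
  s_mem : s ∈ R
  le : R ≤ S
  card : Nat.card R = 32
  card_S : Nat.card S = 128
  S_le : S ≤ centralizer ({s} : Set G)
  nor : S ≤ normalizer (R : Set G)
  norm_eq : normalizer (R : Set G) = centralizer ({s} : Set G)
  cent : ∀ g : G, (∀ x ∈ R, g * x = x * g) → g = 1 ∨ g = s
  card_center : Nat.card (center R) = 2
  comm : ∀ a ∈ R, ∀ b ∈ R, a * b = b * a ∨ a * b = s * (b * a)
  ess : (groupFusionSystem S).IsEssential 2 R
  aut : ∀ α : MulAut R, α ∈ (groupFusionSystem S).autGroup R ↔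
    ∃ g ∈ centralizer ({s} : Set G), ∀ x : R, ((α x : R) : G) = g * x * g⁻¹

section

variable {G : Type*} [Group G] {s : G} {Q : Subgroup (centralizer ({s} : Set G))}
  {v : Fin 5 → centralizer ({s} : Set G)} {ρ : centralizer ({s} : Set G) →* SP}

/-- `Q` as a subgroup of `G` -/
abbrev RR (Q : Subgroup (centralizer ({s} : Set G))) : Subgroup G := Q.map (centralizer ({s} : Set G)).subtype

theorem mem_RR {x : centralizer ({s} : Set G)} : (x : G) ∈ RR Q ↔ x ∈ Q := by
  constructor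
  · rintro ⟨y, hy, hyx⟩
    have : y = x := Subtype.ext hyx
    rwa [← this]
  · intro hx
    exact ⟨x, hx, rfl⟩

theorem mem_cen {g : G} : g ∈ centralizer ({s} : Set G) ↔ g * s = s * g :=
  Subgroup.mem_centralizer_singleton_iff

variable (M : IsModel Q (zc s) v ρ)
include M

theorem s_ne_one : s ≠ 1 := fun h => M.z_ne (Subtype.ext h)

theorem s_mul : s * s = 1 := congrArg Subtype.val M.z_sq

theorem s_mem_RR : s ∈ RR Q := ⟨zc s, M.z_mem, rfl⟩

theorem card_RR : Nat.card (RR Q) = 32 := by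
  rw [← card_Q M]
  exact (Nat.card_congr (Q.equivMapOfInjective _ (Subgroup.subtype_injective _)).toEquiv).symm

theorem cent_RR {g : G} (hg : ∀ x ∈ RR Q, g * x = x * g) : g = 1 ∨ g = s := by
  have hgC : g ∈ centralizer ({s} : Set G) := mem_cen.2 (hg s (s_mem_RR M))
  rcases cent_Q M (c := ⟨g, hgC⟩) (fun x hx => Subtype.ext (hg x ⟨x, hx, rfl⟩)) with h | h
  · left; exact congrArg Subtype.val h
  · right; exact congrArg Subtype.val h

omit M in
theorem comm_s {x : G} (hx : x ∈ RR Q) : x * s = s * x := by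
  obtain ⟨y, -, rfl⟩ := hx
  exact mem_cen.1 y.2

theorem le_norm_RR : centralizer ({s} : Set G) ≤ normalizer (RR Q : Set G) := by
  have key : ∀ c ∈ centralizer ({s} : Set G), ∀ x ∈ RR Q, c * x * c⁻¹ ∈ RR Q := by
    rintro c hc _ ⟨x, hx, rfl⟩
    exact ⟨(⟨c, hc⟩ : centralizer ({s} : Set G)) * x * (⟨c, hc⟩ : centralizer ({s} : Set G))⁻¹, Q_conj M hx, rfl⟩
  intro c hc
  rw [Subgroup.mem_normalizer_iff]
  intro x
  constructor
  · exact key c hc x
  · intro hx
    have h1 := key c⁻¹ (InvMemClass.inv_mem hc) _ hx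
    have h2 : c⁻¹ * (c * x * c⁻¹) * c⁻¹⁻¹ = x := by group
    rwa [h2] at h1

theorem norm_RR_of {g : G} (hg' : ∀ x ∈ RR Q, g⁻¹ * x * g ∈ RR Q) :
    g ∈ centralizer ({s} : Set G) := by
  have h1 : ∀ x ∈ RR Q, g * s * g⁻¹ * x = x * (g * s * g⁻¹) := by
    intro x hx
    have h2 := comm_s (hg' x hx)
    calc g * s * g⁻¹ * x = g * (s * (g⁻¹ * x * g)) * g⁻¹ := by group
      _ = g * (g⁻¹ * x * g * s) * g⁻¹ := by rw [h2]
      _ = x * (g * s * g⁻¹) := by group
  rcases cent_RR M h1 with h | h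
  · exfalso
    apply s_ne_one M
    have : s = g⁻¹ * (g * s * g⁻¹) * g := by group
    rw [this, h]; group
  · rw [mem_cen]
    calc g * s = g * s * g⁻¹ * g := by group
      _ = s * g := by rw [h]

theorem norm_RR : normalizer (RR Q : Set G) = centralizer ({s} : Set G) := by
  apply le_antisymm
  · intro g hg
    apply norm_RR_of M
    · intro x hx
      have h1 := (Subgroup.mem_normalizer_iff.1 (InvMemClass.inv_mem hg) x).1 hx
      rwa [inv_inv] at h1
  · exact le_norm_RR M

theorem card_center_RR : Nat.card (center (RR Q)) = 2 := by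
  have h1 : ∀ x : RR Q, x ∈ center (RR Q) ↔ x = 1 ∨ x = ⟨s, s_mem_RR M⟩ := by
    intro x
    rw [Subgroup.mem_center_iff]
    constructor
    · intro h
      rcases cent_RR M (g := (x : G)) (fun y hy => (congrArg Subtype.val (h ⟨y, hy⟩)).symm) with h2 | h2
      · left; exact Subtype.ext h2
      · right; exact Subtype.ext h2
    · rintro (rfl | rfl) y
      · rw [mul_one, one_mul]
      · exact Subtype.ext (comm_s y.2)
  have h2 : ((center (RR Q) : Subgroup (RR Q)) : Set (RR Q)) = {1, ⟨s, s_mem_RR M⟩} := by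
    ext x
    exact h1 x
  have h3 : Nat.card (center (RR Q)) = ((center (RR Q) : Subgroup (RR Q)) : Set (RR Q)).ncard := rfl
  rw [h3, h2, Set.ncard_pair]
  intro h
  exact s_ne_one M (congrArg Subtype.val h).symm

theorem comm_RR {a b : G} (ha : a ∈ RR Q) (hb : b ∈ RR Q) : a * b = b * a ∨ a * b = s * (b * a) := by
  obtain ⟨a, ha, rfl⟩ := ha
  obtain ⟨b, hb, rfl⟩ := hb
  rcases comm_Q M ha hb with h | h
  · left; exact congrArg Subtype.val h
  · right; exact congrArg Subtype.val h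

variable [Finite G] {S : Sylow 2 G}

omit [Finite G] in
theorem RR_le (hS : (S : Subgroup G) ≤ centralizer ({s} : Set G)) : RR Q ≤ S := by
  have hf2 : Fact (Nat.Prime 2) := ⟨Nat.prime_two⟩
  have hn : Q.Normal := normal_Q M
  have hp : IsPGroup 2 Q := IsPGroup.of_card (n := 5) (by rw [card_Q M]; norm_num)
  have h1 : Q ≤ ((S.subtype hS : Sylow 2 (centralizer ({s} : Set G))) : Subgroup (centralizer ({s} : Set G))) :=
    hp.le_sylow_of_normal _
  rintro _ ⟨x, hx, rfl⟩
  exact h1 hx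

theorem exists_m (hS : (S : Subgroup G) ≤ centralizer ({s} : Set G)) (hc : Nat.card S = 128) :
    ∃ m : Fin 5, ∀ x : centralizer ({s} : Set G), (x : G) ∈ (S : Subgroup G) ↔
      perm ρ x * perm ρ x = 1 ∧ perm ρ x m = m := by
  have h1 : Q ≤ (S : Subgroup G).subgroupOf (centralizer ({s} : Set G)) := by
    intro x hx
    exact RR_le M hS ⟨x, hx, rfl⟩
  have h2 : Nat.card ((S : Subgroup G).subgroupOf (centralizer ({s} : Set G))) = 128 := by
    rw [Nat.card_congr (Subgroup.subgroupOfEquivOfLe hS).toEquiv]; exact hc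
  exact sylow_perm M h1 h2

theorem jr (hS : (S : Subgroup G) ≤ centralizer ({s} : Set G)) (hc : Nat.card S = 128) :
    JR (S : Subgroup G) (RR Q) s := by
  classical
  have hf2 : Fact (Nat.Prime 2) := ⟨Nat.prime_two⟩
  obtain ⟨m, hm⟩ := exists_m M hS hc
  set F := groupFusionSystem (S : Subgroup G) with hF
  set R := RR Q with hR
  have hRS : R ≤ S := RR_le M hS
  have hSR : (S : Subgroup G) ≤ normalizer (R : Set G) := hS.trans (le_norm_RR M)
  have hfR : Finite R := inferInstance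
  -- conjugation automorphisms
  have hex : ∀ g ∈ (centralizer ({s} : Set G)), ∃ α : MulAut R, ∀ x : R, ((α x : R) : G) = g * x * g⁻¹ := fun g hg =>
    Cfsg.Agent.H802.exists_conjAut (le_norm_RR M hg)
  have hmemA : ∀ α : MulAut R, α ∈ F.autGroup R ↔ ∃ g ∈ (centralizer ({s} : Set G)), ∀ x : R, ((α x : R) : G) = g * x * g⁻¹ := by
    intro α
    rw [Cfsg.Agent.H802.mem_autGroup_iff F hRS]
    constructor
    · rintro ⟨-, -, g, hg⟩
      refine ⟨g, ?_, hg⟩
      have h1 : ∀ x ∈ R, g * x * g⁻¹ ∈ R := fun x hx => by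
        have h2 := hg ⟨x, hx⟩
        rw [← h2]
        exact (α ⟨x, hx⟩).2
      apply norm_RR_of M
      intro x hx
      have h3 := hg (α⁻¹ ⟨x, hx⟩)
      have h4 : (R.subtype.comp α.toMonoidHom) (α⁻¹ ⟨x, hx⟩) = x := by
        show ((α (α⁻¹ ⟨x, hx⟩) : R) : G) = x
        rw [MulAut.apply_inv_self]
      rw [h4] at h3
      have h5 : g⁻¹ * x * g = ((α⁻¹ ⟨x, hx⟩ : R) : G) := by
        calc g⁻¹ * x * g = g⁻¹ * (g * ((α⁻¹ ⟨x, hx⟩ : R) : G) * g⁻¹) * g := congrArg (fun y => g⁻¹ * y * g) h3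
          _ = ((α⁻¹ ⟨x, hx⟩ : R) : G) := by group
      rw [h5]
      exact (α⁻¹ ⟨x, hx⟩).2
    · rintro ⟨g, -, hg⟩
      exact ⟨hRS, fun x => hRS (α x).2, g, hg⟩
  -- `S / R` acts
  have hperm : ∀ g : (centralizer ({s} : Set G)), (∀ x ∈ (S : Subgroup G), (g : G) * x * (g : G)⁻¹ ∈ (S : Subgroup G)) → perm ρ g m = m := by
    intro g hg
    obtain ⟨x, hxS, hxR⟩ : ∃ x ∈ (S : Subgroup G), x ∉ R := by
      by_contra hcon
      push Not at hcon
      have h1 := Nat.card_mono (Set.toFinite _) hcon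
      have h2 : Nat.card (R : Set G) = 32 := card_RR M
      have h3 : Nat.card ((S : Subgroup G) : Set G) = 128 := hc
      rw [h2, h3] at h1
      omega
    have h1 : ((⟨x, hS hxS⟩ : (centralizer ({s} : Set G))) ∉ Q) := fun h => hxR (mem_RR.2 h)
    exact ti M (T := (S : Subgroup G).subgroupOf (centralizer ({s} : Set G))) hm (g := g) (x := ⟨x, hS hxS⟩) hxS h1 (hg x hxS)
  have hnorm : ∀ g : (centralizer ({s} : Set G)), perm ρ g m = m → (g : G) ∈ normalizer ((S : Subgroup G) : Set G) := by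
    intro g hg
    have h1 : ∀ g : (centralizer ({s} : Set G)), perm ρ g m = m → ∀ x ∈ (S : Subgroup G), (g : G) * x * (g : G)⁻¹ ∈ (S : Subgroup G) := by
      intro g hg x hx
      exact norm_of_fix (T := (S : Subgroup G).subgroupOf (centralizer ({s} : Set G))) hm hg ⟨x, hS hx⟩ hx
    rw [Subgroup.mem_normalizer_iff]
    intro x
    constructor
    · exact h1 g hg x
    · intro hx
      have h2 : perm ρ g⁻¹ m = m := by
        rw [map_inv, Equiv.Perm.inv_eq_iff_eq]; exact hg.symm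
      have h3 := h1 g⁻¹ h2 _ hx
      have h4 : ((g⁻¹ : (centralizer ({s} : Set G))) : G) * ((g : G) * x * (g : G)⁻¹) * ((g⁻¹ : (centralizer ({s} : Set G))) : G)⁻¹ = x := by
        show (g : G)⁻¹ * ((g : G) * x * (g : G)⁻¹) * (g : G)⁻¹⁻¹ = x
        group
      rwa [h4] at h3
  have hne : R ≠ S := by
    intro h
    have h1 := card_RR M
    have h2 : Nat.card (S : Subgroup G) = 128 := hc
    rw [← hR, h, h2] at h1
    omega
  have hQn : F.IsFullyNormalized R := by
    refine ⟨hRS, fun P _ => ?_⟩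
    have h1 : normalizerIn (S : Subgroup G) R = S := inf_eq_left.2 hSR
    rw [h1]
    exact Nat.card_mono (Set.toFinite _) inf_le_left
  have hQc : F.IsCentric R := by
    refine ⟨hRS, ?_⟩
    rintro P ⟨φ, ⟨-, -, g, hg⟩, rfl⟩ y ⟨hyS, hy⟩
    have h1 : ∀ x ∈ R, g⁻¹ * y * g * x = x * (g⁻¹ * y * g) := by
      intro x hx
      have h2 := Subgroup.mem_centralizer_iff.1 hy (φ ⟨x, hx⟩) ⟨_, rfl⟩
      rw [hg] at h2
      have h3 : g * x * g⁻¹ * y = y * (g * x * g⁻¹) := h2
      calc g⁻¹ * y * g * x = g⁻¹ * (y * (g * x * g⁻¹)) * g := by group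
        _ = g⁻¹ * (g * x * g⁻¹ * y) * g := by rw [h3]
        _ = x * (g⁻¹ * y * g) := by group
    rcases cent_RR M h1 with h2 | h2
    · have h3 : y = 1 := by
        have : y = g * (g⁻¹ * y * g) * g⁻¹ := by group
        rw [this, h2]; group
      rw [h3]
      exact Subgroup.one_mem _
    · refine ⟨⟨s, s_mem_RR M⟩, ?_⟩
      rw [hg]
      show g * s * g⁻¹ = y
      rw [← h2]; group
  have hess : F.IsEssential 2 R := by
    refine Cfsg.Agent.H802.isEssential_of_not_le S.isPGroup' (Cfsg.Agent.H802.groupFusionSystem_isSaturated S)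
      hQn hQc hne (autInducedBy ((centralizer ({s} : Set G)) ⊓ normalizer ((S : Subgroup G) : Set G)) R) ?_ ?_
    · rintro α hα ⟨R', hRR', hcard, ψ, ⟨hR'S, hψS, g, hg⟩, hψ⟩
      -- `g` normalizes `R`
      obtain ⟨g', hgc', hg'⟩ := (hmemA α).1 hα
      have h1 : ∀ x ∈ R, g'⁻¹ * g * x = x * (g'⁻¹ * g) := by
        intro x hx
        have h2 : g * x * g⁻¹ = g' * x * g'⁻¹ := by
          rw [← hg' ⟨x, hx⟩, ← hψ ⟨x, hx⟩, hg]
        calc g'⁻¹ * g * x = g'⁻¹ * (g * x * g⁻¹) * g := by group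
          _ = g'⁻¹ * (g' * x * g'⁻¹) * g := by rw [h2]
          _ = x * (g'⁻¹ * g) := by group
      have h2 : g'⁻¹ * g ∈ (centralizer ({s} : Set G)) := by
        rcases cent_RR M h1 with h3 | h3
        · rw [h3]; exact (centralizer ({s} : Set G)).one_mem
        · rw [h3]; exact mem_cen.2 rfl
      have hgC : g ∈ (centralizer ({s} : Set G)) := by
        have h3 := (centralizer ({s} : Set G)).mul_mem hgc' h2
        rwa [mul_inv_cancel_left] at h3
      obtain ⟨y, hyR', hyR⟩ : ∃ y ∈ R', y ∉ R := by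
        by_contra hcon
        push Not at hcon
        have h3 : R' ≤ R := hcon
        have h4 := Nat.card_mono (Set.toFinite _) h3
        exact absurd hcard (not_lt.2 h4)
      have hyS : y ∈ (S : Subgroup G) := hR'S hyR'
      have h4 : ((⟨y, hS hyS⟩ : (centralizer ({s} : Set G))) ∉ Q) := fun h => hyR (mem_RR.2 h)
      have h5 : g * y * g⁻¹ ∈ (S : Subgroup G) := by
        have h6 := hψS ⟨y, hyR'⟩
        rw [hg] at h6
        exact h6
      have h7 : perm ρ (⟨g, hgC⟩ : (centralizer ({s} : Set G))) m = m :=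
        ti M (T := (S : Subgroup G).subgroupOf (centralizer ({s} : Set G))) hm (g := ⟨g, hgC⟩) (x := ⟨y, hS hyS⟩) hyS h4 h5
      refine (Cfsg.Agent.H802.mem_autInducedBy_iff _ _ _).2 ⟨g, ⟨hgC, hnorm ⟨g, hgC⟩ h7⟩, fun x => ?_⟩
      rw [← hψ x, hg]
    · intro hle
      obtain ⟨j, hj⟩ : ∃ j : Fin 5, j ≠ m := exists_ne m
      obtain ⟨c, hcm⟩ := exists_perm M m j
      obtain ⟨α, hα⟩ := hex c c.2
      have h1 := hle ((hmemA α).2 ⟨c, c.2, hα⟩)
      obtain ⟨g, ⟨hgC, hgN⟩, hg⟩ := (Cfsg.Agent.H802.mem_autInducedBy_iff _ _ _).1 h1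
      have h2 : perm ρ (⟨g, hgC⟩ : (centralizer ({s} : Set G))) m = m := by
        apply hperm
        intro x hx
        exact (Subgroup.mem_normalizer_iff.1 hgN x).1 hx
      have h3 : ∀ x ∈ Q, ((⟨g, hgC⟩ : (centralizer ({s} : Set G)))⁻¹ * c) * x = x * ((⟨g, hgC⟩ : (centralizer ({s} : Set G)))⁻¹ * c) := by
        intro x hx
        apply Subtype.ext
        show g⁻¹ * (c : G) * (x : G) = (x : G) * (g⁻¹ * (c : G))
        have h4 : (c : G) * (x : G) * (c : G)⁻¹ = g * (x : G) * g⁻¹ := by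
          rw [← hα ⟨x, ⟨x, hx, rfl⟩⟩, hg ⟨x, ⟨x, hx, rfl⟩⟩]
        calc g⁻¹ * (c : G) * (x : G) = g⁻¹ * ((c : G) * (x : G) * (c : G)⁻¹) * (c : G) := by group
          _ = g⁻¹ * (g * (x : G) * g⁻¹) * (c : G) := by rw [h4]
          _ = (x : G) * (g⁻¹ * (c : G)) := by group
      have h5 : (⟨g, hgC⟩ : (centralizer ({s} : Set G)))⁻¹ * c ∈ Q := by
        rcases cent_Q M h3 with h6 | h6
        · rw [h6]; exact Q.one_mem
        · rw [h6]; exact M.z_mem
      rw [mem_Q_iff M, map_mul, map_inv, inv_mul_eq_one] at h5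
      rw [h5, hcm] at h2
      exact hj h2
  exact
  { s_ne := s_ne_one M
    s_sq := s_mul M
    s_mem := s_mem_RR M
    le := hRS
    card := card_RR M
    card_S := hc
    S_le := hS
    nor := hSR
    norm_eq := norm_RR M
    cent := fun g hg => cent_RR M hg
    card_center := card_center_RR M
    comm := fun a ha b hb => comm_RR M ha hb
    ess := hess
    aut := hmemA }

end

/-- **Every Sylow 2-subgroup of a group of type `J₃` has a normal subgroup `R` of type `2^{1+4}` which is essential in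
the fusion system.** -/
theorem exists_jr {G : Type*} [Group G] [Finite G] (h : Cfsg.Spor.IsoJ3 G) (S : Sylow 2 G) :
    ∃ (R : Subgroup G) (s : G), JR (S : Subgroup G) R s := by
  have hf2 : Fact (Nat.Prime 2) := ⟨Nat.prime_two⟩
  obtain ⟨-, z, Q, v, ρ, n, u, F⟩ := Cfsg.Agent.KFacts.J3.exists_facts h
  have hc : Nat.card S = 128 := by
    rw [S.card_eq_multiplicity, F.card_K]
    have h1 : (50232960 : ℕ) = 2 ^ 7 * 392445 := by norm_num
    rw [h1, Nat.factorization_mul (by norm_num) (by norm_num)]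
    simp only [Finsupp.coe_add, Pi.add_apply]
    rw [Nat.prime_two.factorization_pow, Nat.factorization_eq_zero_of_not_dvd (by norm_num : ¬ 2 ∣ 392445)]
    simp
  -- a central involution of `S`
  have hnt : Nontrivial (S : Subgroup G) := by
    rw [← Finite.one_lt_card_iff_nontrivial]
    have h1 : Nat.card (S : Subgroup G) = 128 := hc
    rw [h1]; norm_num
  have hcn : Nontrivial (center (S : Subgroup G)) := S.isPGroup'.center_nontrivial
  obtain ⟨t, ht⟩ : ∃ t : center (S : Subgroup G), orderOf t = 2 := by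
    apply exists_prime_orderOf_dvd_card'
    have h1 : IsPGroup 2 (center (S : Subgroup G)) := S.isPGroup'.to_subgroup _
    obtain ⟨k, hk⟩ := IsPGroup.iff_card.1 h1
    have h2 : 1 < Nat.card (center (S : Subgroup G)) := Finite.one_lt_card
    rw [hk] at h2 ⊢
    cases k with
    | zero => simp at h2
    | succ k => exact Dvd.intro_left _ rfl
  set s : G := ((t : (S : Subgroup G)) : G) with hs
  have hs2 : s * s = 1 := by
    have h1 : t * t = 1 := by
      rw [← pow_two]
      exact orderOf_dvd_iff_pow_eq_one.1 ht.dvd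
    exact congrArg (fun c : center (S : Subgroup G) => ((c : (S : Subgroup G)) : G)) h1
  have hs1 : s ≠ 1 := by
    intro h1
    have h2 : t = 1 := Subtype.ext (Subtype.ext h1)
    rw [h2, orderOf_one] at ht
    omega
  have hSs : (S : Subgroup G) ≤ centralizer ({s} : Set G) := by
    intro y hy
    rw [mem_cen]
    exact congrArg Subtype.val (Subgroup.mem_center_iff.1 t.2 ⟨y, hy⟩)
  obtain ⟨g, hg⟩ := F.one s hs1 hs2
  have M' := transport (conjEquiv g z s hg) F.model
  have hz : conjEquiv g z s hg (zc z) = zc s := Subtype.ext hg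
  rw [hz] at M'
  exact ⟨_, s, jr M' hSs hc⟩

end Cfsg.Agent.H745.J3E
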