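import Cfsg.Agent.H745.J3E.EssMain
import Cfsg.Agent.H745.J3E.Abs
import Cfsg.Agent.H442.J3F.Main

/-!
# S5175, StJ: the configuration of `J₃` with its essential subgroup `2^{1+4}` (helper745)
-/
set_option autoImplicit false

namespace Cfsg.Agent.H745.J3E

open Subgroup Cfsg Cfsg.FusionSystem Cfsg.Agent.H756.HM

/-- **The group side of StJ**: in `F_S(J₃)` there is a configuration `Big` with `q = 4`, `C_V(E) = 1` and an essential
subgroup `R` of type `2^{1+4}`, not contained in `T`. -/
theorem j3_side {L : Type*} [Group L] [Finite L] (h : Cfsg.Spor.IsoJ3 L) (S : Sylow 2 L) {K : Type} [Field K]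
    [Fintype K] (hK : Fintype.card K = 4) :
    ∃ (V T : Subgroup L) (x : L) (b : Big (groupFusionSystem (S : Subgroup L)) K V T x) (R : Subgroup L) (s : L),
      fixS V b.E = ⊥ ∧ JR (S : Subgroup L) R s ∧ ¬ R ≤ T := by
  obtain ⟨V, T, x, b, hb⟩ := Cfsg.Agent.H442.J3F.big_j3 h S hK
  obtain ⟨R, s, hR⟩ := exists_jr h S
  refine ⟨V, T, x, b, R, s, hb, hR, ?_⟩
  refine not_le_T b.toConf b.T_eq hK hb hR.card hR.card_center.le s ?_
  intro a ha c hc
  rcases hR.comm a ha c hc with h1 | h1
  · left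
    rw [h1]; group
  · right
    rw [h1]; group

end Cfsg.Agent.H745.J3E
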